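import Cfsg.Agent.Lib.CosetEnum.Fi22Base.Data
import Cfsg.Agent.Lib.CosetEnum.Fi22O73.Data

/-! Generated certificate. -/

set_option autoImplicit false
set_option maxRecDepth 20000

namespace Cfsg.Lib.CosetEnum.Fi22Base

theorem killPow0 : permOK Fi22O73.tabP 9 14080 [(List.replicate 11 killWord).flatten] 2000 0 = true := by
  decide +kernel

theorem killPow1 : permOK Fi22O73.tabP 9 14080 [(List.replicate 11 killWord).flatten] 2000 2000 = true := by
  decide +kernel

theorem killPow2 : permOK Fi22O73.tabP 9 14080 [(List.replicate 11 killWord).flatten] 2000 4000 = true := by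
  decide +kernel

theorem killPow3 : permOK Fi22O73.tabP 9 14080 [(List.replicate 11 killWord).flatten] 2000 6000 = true := by
  decide +kernel

theorem killPow4 : permOK Fi22O73.tabP 9 14080 [(List.replicate 11 killWord).flatten] 2000 8000 = true := by
  decide +kernel

theorem killPow5 : permOK Fi22O73.tabP 9 14080 [(List.replicate 11 killWord).flatten] 2000 10000 = true := by
  decide +kernel

theorem killPow6 : permOK Fi22O73.tabP 9 14080 [(List.replicate 11 killWord).flatten] 2000 12000 = true := by
  decide +kernel

theorem killPow7 : permOK Fi22O73.tabP 9 14080 [(List.replicate 11 killWord).flatten] 80 14000 = true := by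
  decide +kernel

theorem killWord_pow : permOK Fi22O73.tabP 9 14080 [(List.replicate 11 killWord).flatten] 14080 0 = true :=
  (permOK_append (a := 14000) (b := 80) (permOK_append (a := 12000) (b := 2000) (permOK_append (a := 10000) (b := 2000) (permOK_append (a := 8000) (b := 2000) (permOK_append (a := 6000) (b := 2000) (permOK_append (a := 4000) (b := 2000) (permOK_append (a := 2000) (b := 2000) killPow0 killPow1) killPow2) killPow3) killPow4) killPow5) killPow6) killPow7)

end Cfsg.Lib.CosetEnum.Fi22Base
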