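import Cfsg.Agent.Lib.CosetEnum.Fi22Base.Data
import Cfsg.Agent.Lib.CosetEnum.Fi22O73.Data

/-! Generated certificate. -/

set_option autoImplicit false
set_option maxRecDepth 20000

namespace Cfsg.Lib.CosetEnum.Fi22Base

theorem orbit0_ok : orbitOK Fi22O73.tabP orb0 pos0 9 14080 14080 words0 14080 0 = true := by
  decide +kernel

theorem nest0_ok : nestOK Fi22O73.tabP 9 level0 words1 = true := by
  decide +kernel

theorem orbit1_ok : orbitOK Fi22O73.tabP orb1 pos1 9 14080 3159 words1 3159 0 = true := by
  decide +kernel

theorem nest1_ok : nestOK Fi22O73.tabP 9 level1 words2 = true := by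
  decide +kernel

theorem orbit2_ok : orbitOK Fi22O73.tabP orb2 pos2 9 14080 288 words2 288 0 = true := by
  decide +kernel

theorem nest2_ok : nestOK Fi22O73.tabP 9 level2 words3 = true := by
  decide +kernel

theorem orbit3_ok : orbitOK Fi22O73.tabP orb3 pos3 9 14080 35 words3 35 0 = true := by
  decide +kernel

theorem nest3_ok : nestOK Fi22O73.tabP 9 level3 words4 = true := by
  decide +kernel

theorem orbit4_ok : orbitOK Fi22O73.tabP orb4 pos4 9 14080 144 words4 144 0 = true := by
  decide +kernel

theorem nest4_ok : nestOK Fi22O73.tabP 9 level4 [] = true := by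
  decide +kernel

end Cfsg.Lib.CosetEnum.Fi22Base
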