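import Cfsg.Agent.Lib.CosetEnum.Defs

/-! Generated table data. -/

set_option autoImplicit false
set_option maxRecDepth 20000

namespace Cfsg.Lib.CosetEnum.Fi22Base

/-- Table data. -/
def orb3_0_0 : Tab :=
  (.leaf 0xac00008400001000007e00007c00000000005900007400000000005800007000004000004800006c00000000003e00006400004000003d00006000005000003200005800004000002b00005400004000002a00005000005000002900005000002000002200004800004000002100004400005000001d00003c00005000001c00003c00001000001a00003800004000001700003000005000001600003000001000001400002c00005000001300002c00000000001200002400005000001000002000005000000f00002000000000000e00001c00004000000d00001400005000000c00001400000000000b00001000004000000a00001000003000000900000c00005000000800000800004000000700000800002000000600000400004000000500000400001000000400000000000000000300000000000)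

/-- Table data. -/
def orb3_0 : Tab :=
  orb3_0_0

end Cfsg.Lib.CosetEnum.Fi22Base
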