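import Cfsg.Agent.Lib.CosetEnum.Defs

/-! Generated table data. -/

set_option autoImplicit false
set_option maxRecDepth 20000

namespace Cfsg.Lib.CosetEnum.Fi22Base

/-- Table data. -/
def orb4_0_0 : Tab :=
  (.node 1 (.leaf 0x13ff00007c0000400013f300007c0000300013fe00007c00000000140e0000780000300013fc0000740000400014040000700000400013f600007000003000140300007000001000156a00006800003000156d0000640000300014dd00006000004000156c00005c00004000156000005c00003000150e00005c00000000157700005800003000156900005400004000157600005000004000156800005000003000156b00005000001000140d00004c0000400013fb00004c00003000140c00004c0000200011ae0000440000300011b10000400000300011a800003c00004000116900003800004000116500003800003000116800003800000000108200003400003000107700003000004000107c00002c00004000107300002c00003000107800002c00001000108100002800004000107600002800003000107b0000280000200011ba0000240000300011ad0000200000400011b000001c0000400011a700001c0000300011af00001c0000100011b90000180000400011ac0000180000300011b8000018000020001080000018000000000e7a000014000030000e72000010000040000e7400000c000040000e6e00000c000030000e3d00000c000010000d79000008000040000d72000008000030000d75000008000020000d78000008000000000e79000004000040000e71000004000030000e73000004000020000e78000004000010000bc0000000000040000bba000000000030000bbc000000000020000af5000000000010000bbf00000000000000098400000000000)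 (.node 1 (.leaf 0x18d100019c0000400018c4000198000040001130000198000030001c4000018c000030001be3000180000030001bed00017c000030001479000178000040001be500016c000030001bf200016800003000169d00016400004000169a000160000040000fa6000160000030001cbb000154000030001ce3000150000030001b6200014c000040001d50000140000030001d5100013c000030001b67000138000040001b5900013400004000139a000134000030001beb00012c000030001bfc000128000030001bea000124000040001bf10001200000400014d10001200000300014c300012000000000190a00011400003000190c00011000003000186300010c0000400017ed0001000000300017f70000fc0000300017ea0000f80000400017f60000f40000400010ed0000f40000300017f50000ec0000300017fe0000e80000300017ec0000e40000400017fd0000e00000400012ea0000e00000300012e70000e00000000018d80000d40000300019750000d00000300018db0000cc00004000190b0000c80000400017730000c80000300019730000c000003000197e0000bc0000300019720000b80000400019740000b40000400017780000b400003000176a0000b40000000018080000b00000300017f40000ac0000400018070000a80000400017f30000a80000300017fc0000a800001000156100009c00003000151000009800003000150b00009400004000150f0000900000400014760000900000300013fd0000880000300014050000840000300013f700008000004) (.leaf 0x18d200022800003000169e000218000030001b68000208000030001cb50001fc000030001cab0001f80000300014d20001f40000400018670001e4000030001a860001d8000030001a840001d40000300012eb0001d0000040001f070001c4000030001f0c0001b8000030001eff0001b40000300017790001b0000040001f910001a4000030001f970001a000003)))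

/-- Table data. -/
def orb4_0 : Tab :=
  orb4_0_0

end Cfsg.Lib.CosetEnum.Fi22Base
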